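import Mathlib

/-!
# Inverse image of `M^~` along `Spec S ⟶ Spec R` is `(S ⊗[R] M)^~`
-/

set_option autoImplicit false
set_option backward.isDefEq.respectTransparency false
set_option backward.defeqAttrib.useBackward true

universe u

open CategoryTheory AlgebraicGeometry Opposite

namespace Groth.Agent.TildePullback

variable {R S : CommRingCat.{u}} (φ : R ⟶ S)

set_option backward.isDefEq.respectTransparency.types false in
/-- global sections of a direct image along `Spec φ`: restriction of scalars. -/
noncomputable def pushforwardΓIso :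
    Scheme.Modules.pushforward (Spec.map φ) ⋙ moduleSpecΓFunctor (R := R) ≅
      moduleSpecΓFunctor (R := S) ⋙ ModuleCat.restrictScalars φ.hom :=
  NatIso.ofComponents (fun M => LinearEquiv.toModuleIso
    (X₁ := (Scheme.Modules.pushforward (Spec.map φ) ⋙ moduleSpecΓFunctor (R := R)).obj M)
    (X₂ := (moduleSpecΓFunctor (R := S) ⋙ ModuleCat.restrictScalars φ.hom).obj M)
    { __ := AddEquiv.refl _
      map_smul' := fun r x => by
        have h : (Spec.map φ).app ⊤ ((Scheme.ΓSpecIso R).inv r) = (Scheme.ΓSpecIso S).inv (φ r) :=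
          congr($((Scheme.ΓSpecIso_inv_naturality φ).symm) r)
        change (show Γ(Spec S, ⊤) from (Spec.map φ).app ⊤ ((Spec R).presheaf.map (𝟙 _) ((Scheme.ΓSpecIso R).inv r))) • (show Γ(M, ⊤) from x) =
          (show Γ(Spec S, ⊤) from (Spec S).presheaf.map (𝟙 _) ((Scheme.ΓSpecIso S).inv (φ r))) • (show Γ(M, ⊤) from x)
        simp only [CategoryTheory.Functor.map_id, CommRingCat.id_apply]
        rw [h] }) fun _ => rfl

/-- `(Spec φ)^* (M^~) ≅ (S ⊗[R] M)^~`, naturally in `M`. -/
noncomputable def tildePullbackIso :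
    tilde.functor R ⋙ Scheme.Modules.pullback (Spec.map φ) ≅
      ModuleCat.extendScalars.{u, u, u} φ.hom ⋙ tilde.functor S :=
  ((tilde.adjunction.comp (Scheme.Modules.pullbackPushforwardAdjunction (Spec.map φ))).ofNatIsoRight
      (pushforwardΓIso φ)).leftAdjointUniq
    ((ModuleCat.extendRestrictScalarsAdj.{u, u, u} φ.hom).comp tilde.adjunction)

end Groth.Agent.TildePullback
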