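import Groth.Prelude.Def_Omega2
import Groth.Agent.TildePullback.Basic
import Groth.Agent.QCohLib.Exact

/-!
# Conormal sheaf of an affine closed immersion
-/

set_option autoImplicit false
set_option backward.isDefEq.respectTransparency false
set_option backward.defeqAttrib.useBackward true

universe u

open CategoryTheory CategoryTheory.Limits AlgebraicGeometry Opposite

namespace Groth.Agent.TildePullback

variable {X Y Z : Scheme.{u}}

lemma unitToPush_comp (a : X ⟶ Y) (b : Y ⟶ Z) :
    ClSub.unitToPush (a ≫ b) = ClSub.unitToPush b ≫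
      (Scheme.Modules.pushforward b).map (ClSub.unitToPush a) ≫
      (Scheme.Modules.pushforwardComp a b).hom.app _ := by
  ext U s
  rfl

lemma isIso_unitToPush (a : X ⟶ Y) [IsIso a] : IsIso (ClSub.unitToPush a) := by
  rw [Scheme.Modules.Hom.isIso_iff_isIso_app]
  intro U
  have : IsIso (a.app U) := inferInstance
  rw [ConcreteCategory.isIso_iff_bijective]
  exact (ConcreteCategory.isIso_iff_bijective (a.app U)).mp this

/-- the kernel of `O → a_* O` does not change under precomposition by an isomorphism -/
noncomputable def kerUnitLeft (a : X ⟶ Y) [IsIso a] (b : Y ⟶ Z) :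
    kernel (ClSub.unitToPush (a ≫ b)) ≅ kernel (ClSub.unitToPush b) :=
  haveI := isIso_unitToPush a
  kernelIsoOfEq (unitToPush_comp a b) ≪≫ kernelCompMono _ _

/-- ... and is pushed forward under postcomposition by an isomorphism -/
noncomputable def kerUnitRight (a : X ⟶ Y) (b : Y ⟶ Z) [IsIso b] :
    kernel (ClSub.unitToPush (a ≫ b)) ≅
      (Scheme.Modules.pushforward b).obj (kernel (ClSub.unitToPush a)) :=
  haveI := isIso_unitToPush b
  kernelIsoOfEq (unitToPush_comp a b) ≪≫ kernelIsIsoComp _ _ ≪≫ kernelCompMono _ _ ≪≫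
    (PreservesKernel.iso (Scheme.Modules.pushforward b) (ClSub.unitToPush a)).symm

/-- the ideal module of a closed immersion -/
noncomputable def idealModKerIso (i : X ⟶ Y) [IsClosedImmersion i] :
    ClSub.idealMod i.ker ≅ kernel (ClSub.unitToPush i) :=
  (kerUnitLeft i.toImage i.imageι).symm ≪≫ eqToIso (congrArg (fun φ : X ⟶ Y => kernel (ClSub.unitToPush φ)) i.toImage_imageι)

/-- the inverse image along an isomorphism inverts the direct image -/
noncomputable def pullbackPushforwardIso (b : Y ⟶ Z) [IsIso b] (M : Y.Modules) :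
    (Scheme.Modules.pullback b).obj ((Scheme.Modules.pushforward b).obj M) ≅ M :=
  ((Scheme.Modules.restrictFunctorIsoPullback b).symm.app _) ≪≫
    (Scheme.Modules.restrictFunctorAdjCounitIso b).app M

/-- conormal sheaf after an isomorphism of the target -/
noncomputable def conormalCompIso (a : X ⟶ Y) (b : Y ⟶ Z) [IsClosedImmersion a] [IsIso b] :
    Omega.conormal (a ≫ b) ≅ (Scheme.Modules.pullback a).obj (kernel (ClSub.unitToPush a)) :=
  (Scheme.Modules.pullback (a ≫ b)).mapIso (idealModKerIso (a ≫ b) ≪≫ kerUnitRight a b) ≪≫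
    ((Scheme.Modules.pullbackComp a b).symm.app _) ≪≫
    (Scheme.Modules.pullback a).mapIso (pullbackPushforwardIso b _)

section Affine

variable {T A : CommRingCat.{u}} (π : T ⟶ A)

lemma isQCoh_kernel_unitToPush :
    Coh.IsQCoh (kernel (ClSub.unitToPush (Spec.map π))) := by
  refine (QCohLib.isQCoh_image (ClSub.unitToPush (Spec.map π)) inferInstance ?_).1
  rw [Coh.IsQCoh, isQuasicoherent_iff_isIso_fromTildeΓ]
  exact isIso_fromTildeΓ_pushforward π _

instance : (moduleSpecΓFunctor (R := T)).Additive :=
  haveI : (moduleSpecΓFunctor (R := T)).IsRightAdjoint := tilde.adjunction.isRightAdjoint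
  haveI := preservesBinaryBiproducts_of_preservesBinaryProducts (moduleSpecΓFunctor (R := T))
  Functor.additive_of_preservesBinaryBiproducts _

instance : (moduleSpecΓFunctor (R := T)).IsRightAdjoint := tilde.adjunction.isRightAdjoint

set_option backward.isDefEq.respectTransparency.types false in
/-- global sections of `O` -/
noncomputable def topEquiv : T ≃ₗ[T] moduleSpecΓFunctor.obj (Coh.structureModule (Spec T)) where
  toFun x := (Scheme.ΓSpecIso T).inv x
  invFun x := (Scheme.ΓSpecIso T).hom x
  map_add' x y := map_add (Scheme.ΓSpecIso T).inv.hom x y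
  map_smul' r x := by
    refine (map_mul (Scheme.ΓSpecIso T).inv.hom r x).trans ?_
    change _ = (show Γ(Spec T, ⊤) from (Spec T).presheaf.map (𝟙 _) ((Scheme.ΓSpecIso T).inv r)) *
      (show Γ(Spec T, ⊤) from (Scheme.ΓSpecIso T).inv x)
    simp only [CategoryTheory.Functor.map_id, CommRingCat.id_apply]
  left_inv x := congr($((Scheme.ΓSpecIso T).inv_hom_id) x)
  right_inv x := congr($((Scheme.ΓSpecIso T).hom_inv_id) x)

/-- `Γ` of the kernel of `O → π_* O` is the kernel of `π`. -/
noncomputable def gammaKerIso :
    moduleSpecΓFunctor.obj (kernel (ClSub.unitToPush (Spec.map π))) ≅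
      ModuleCat.of T (RingHom.ker π.hom) :=
  PreservesKernel.iso moduleSpecΓFunctor (ClSub.unitToPush (Spec.map π)) ≪≫
    ModuleCat.kernelIsoKer _ ≪≫
      (LinearEquiv.ofSubmodules topEquiv (RingHom.ker π.hom)
        (LinearMap.ker (moduleSpecΓFunctor.map (ClSub.unitToPush (Spec.map π))).hom) (by
          ext y
          obtain ⟨x, rfl⟩ := (topEquiv (T := T)).surjective y
          rw [Submodule.mem_map_equiv, LinearEquiv.symm_apply_apply, LinearMap.mem_ker]
          have h : (Spec.map π).app ⊤ ((Scheme.ΓSpecIso T).inv x) =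
              (Scheme.ΓSpecIso A).inv (π x) :=
            congr($((Scheme.ΓSpecIso_inv_naturality π).symm) x)
          change π x = 0 ↔ (Spec.map π).app ⊤ ((Scheme.ΓSpecIso T).inv x) = 0
          rw [h]
          exact (map_eq_zero_iff (Scheme.ΓSpecIso A).inv.hom
            (Scheme.ΓSpecIso A).symm.commRingCatIsoToRingEquiv.injective).symm)).symm.toModuleIso

/-- `O → π_* O` has kernel `(ker π)^~`. -/
noncomputable def kerTildeIso :
    kernel (ClSub.unitToPush (Spec.map π)) ≅ tilde (ModuleCat.of T (RingHom.ker π.hom)) :=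
  haveI := isQCoh_kernel_unitToPush π
  (asIso (kernel (ClSub.unitToPush (Spec.map π))).fromTildeΓ).symm ≪≫
    (tilde.functor T).mapIso (gammaKerIso π)

end Affine

end Groth.Agent.TildePullback
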